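import Mathlib.Data.Nat.Bitwise
import Mathlib.Tactic.Common

/-!
Tables for the stabiliser of the Higman-Sims group on one of 352 lattice vectors and for `PSU(3,5)`: 126
pairs of vectors, 126 isotropic points, and two permutations induced on both.  The numbers were found by
computer search; everything about them is checked by the kernel.
-/

set_option autoImplicit false

namespace CfsgLib.HSUnitary.Data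

/-- The two permutations, seven bits per point. -/
def codes : List ℕ := [31730770079926745111613514776307289820942141582457566124756683399307186716732578608681951493661407909732439901948610390224657482693739280148215510070281449754037691372813487770640087660701272495785541520126764912996577403529027882200997223064247591565148209161502721, 22667953065460994624163133451020504224923045341467514411740242360755484288380488668902414233337492546755287916299762590302511742510238556576337869012953062368867868257419159564848793897286089975416770926480264973837059183319338998200595382216711321873782378174955906]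

/-- For every point: twice an earlier point plus the permutation carrying it there. -/
def tree : List ℕ := [0, 0, 1, 3, 4, 5, 6, 7, 9, 11, 13, 14, 15, 16, 17, 18, 20, 21, 23, 24, 27, 28, 29, 31, 33, 34, 35, 37, 39, 40, 41, 45, 46, 47, 48, 51, 52, 54, 55, 56, 57, 61, 63, 65, 66, 67, 71, 73, 75, 76, 77, 79, 80, 81, 84, 85, 86, 87, 89, 92, 95, 96, 97, 99, 100, 101, 103, 105, 107, 110, 114, 115, 116, 119, 120, 121, 123, 125, 126, 127, 130, 131, 132, 133, 134, 135, 136, 137, 141, 142, 143, 145, 146, 149, 150, 153, 157, 159, 171, 174, 175, 177, 180, 181, 185, 186, 187, 189, 190, 192, 194, 202, 205, 206, 209, 213, 215, 219, 223, 227, 231, 233, 235, 240, 244, 249]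

/-- A word for an element fixing the first point. -/
def wordC : List ℕ := [0, 1, 1, 1, 0, 1, 1, 0, 1, 1]

/-- A word for an element fixing the first point. -/
def wordD : List ℕ := [1, 0, 1, 1, 1, 0, 1, 0, 1, 0]

/-- A word for an element of order eight fixing two points. -/
def wordE : List ℕ := [0, 1, 0, 1, 0, 1, 1, 1, 1, 1, 0, 1, 0, 1, 1]

/-- The other points, along the orbit of the stabiliser of the first. -/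
def order2 : List ℕ := [65, 54, 98, 35, 119, 48, 29, 109, 34, 91, 38, 60, 16, 37, 96, 93, 80, 52, 13, 72, 14, 39, 75, 102, 5, 43, 108, 122, 10, 92, 19, 11, 62, 6, 103, 86, 8, 68, 89, 107, 69, 53, 94, 90, 50, 112, 24, 106, 9, 124, 22, 27, 104, 95, 70, 30, 78, 84, 125, 121, 79, 110, 18, 23, 100, 115, 45, 118, 120, 28, 99, 25, 111, 74, 56, 66, 41, 46, 61, 31, 7, 36, 26, 105, 123, 1, 76, 117, 55, 81, 33, 4, 85, 17, 71, 51, 59, 44, 77, 87, 3, 57, 58, 2, 47, 15, 42, 64, 32, 113, 49, 83, 116, 101, 82, 114, 88, 67, 73, 63, 40, 12, 97, 21, 20]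

/-- The tree for `order2`. -/
def tree2 : List ℕ := [0, 0, 1, 2, 3, 4, 5, 6, 7, 8, 9, 10, 11, 12, 13, 14, 15, 16, 17, 18, 19, 20, 21, 22, 24, 25, 26, 27, 28, 29, 31, 32, 33, 34, 35, 36, 37, 38, 40, 41, 42, 43, 44, 45, 46, 50, 51, 55, 57, 58, 60, 61, 62, 63, 64, 65, 66, 68, 69, 70, 71, 72, 73, 74, 78, 79, 83, 85, 86, 93, 95, 97, 99, 100, 101, 102, 103, 104, 106, 107, 108, 109, 110, 111, 112, 116, 117, 121, 123, 124, 131, 133, 135, 137, 146, 148, 149, 150, 151, 152, 153, 154, 158, 159, 163, 165, 166, 173, 175, 177, 179, 188, 192, 193, 197, 199, 200, 207, 209, 211, 213, 227, 229, 231, 233]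

/-- Part of `vecs`. -/
def vecs0 : List (List ℤ) := [
  [-3, -1, -1, -1, 1, -1, -1, -1, 1, 1, -1, -1, -1, -1, -1, 1, -1, 1, -1, 1, 1, -1, -1, -1],
  [-3, -1, -1, 1, 1, -1, 1, 1, -1, -1, -1, -1, -1, -1, 1, -1, -1, -1, -1, -1, -1, -1, 1, 1],
  [-3, -1, -1, 1, -1, -1, -1, -1, -1, 1, 1, 1, 1, -1, 1, -1, -1, -1, -1, -1, -1, -1, -1, 1],
  [-3, -1, 1, 1, -1, -1, -1, -1, 1, -1, 1, 1, -1, -1, -1, -1, -1, 1, -1, -1, 1, -1, -1, -1],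
  [-3, -1, -1, -1, -1, -1, 1, -1, -1, -1, -1, 1, 1, 1, -1, -1, -1, -1, -1, 1, -1, -1, 1, 1],
  [-3, -1, -1, 1, -1, -1, -1, -1, -1, -1, 1, -1, 1, 1, -1, 1, -1, -1, -1, 1, 1, -1, -1, -1],
  [-3, -1, -1, -1, -1, -1, -1, -1, 1, -1, 1, -1, -1, 1, -1, -1, 1, 1, -1, 1, -1, -1, 1, -1],
  [-3, -1, -1, -1, 1, 1, -1, -1, -1, -1, -1, 1, -1, 1, -1, 1, 1, -1, -1, 1, -1, -1, -1, -1],
  [-3, -1, -1, 1, -1, -1, -1, 1, -1, -1, -1, 1, 1, -1, -1, -1, -1, -1, 1, -1, 1, -1, 1, -1],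
  [-3, -1, 1, -1, 1, -1, -1, -1, -1, 1, 1, -1, -1, -1, 1, -1, -1, 1, -1, -1, -1, -1, 1, -1],
  [-3, -1, 1, 1, -1, -1, 1, -1, -1, -1, 1, -1, -1, -1, 1, 1, -1, -1, -1, -1, -1, 1, -1, -1],
  [-3, -1, -1, -1, -1, -1, -1, 1, 1, -1, -1, -1, -1, 1, -1, -1, -1, -1, 1, -1, -1, 1, 1, 1],
  [-3, -1, -1, 1, 1, 1, -1, -1, 1, -1, 1, -1, -1, -1, 1, -1, -1, -1, -1, 1, -1, -1, -1, -1],
  [-3, -1, -1, -1, -1, -1, -1, 1, -1, -1, 1, -1, 1, -1, 1, -1, -1, -1, -1, 1, -1, 1, 1, -1],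
  [-3, -1, -1, 1, -1, 1, 1, -1, -1, -1, -1, 1, -1, 1, 1, -1, -1, -1, -1, -1, 1, -1, -1, -1],
  [-3, -1, 1, -1, -1, 1, -1, -1, -1, -1, -1, 1, -1, 1, -1, -1, -1, 1, 1, -1, -1, -1, 1, -1],
  [-3, -1, -1, 1, -1, -1, 1, -1, -1, -1, -1, -1, -1, 1, -1, 1, 1, -1, 1, -1, -1, -1, 1, -1],
  [-3, -1, -1, -1, -1, -1, -1, -1, 1, -1, 1, 1, -1, -1, -1, 1, -1, -1, -1, 1, -1, 1, -1, 1],
  [-3, -1, -1, -1, -1, -1, 1, -1, -1, -1, -1, -1, 1, -1, -1, 1, 1, 1, -1, 1, -1, 1, -1, -1],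
  [-3, -1, -1, -1, -1, -1, -1, 1, -1, 1, -1, -1, -1, -1, 1, 1, -1, 1, -1, -1, -1, 1, -1, 1],
  [-3, -1, 1, -1, 1, -1, 1, 1, -1, 1, -1, -1, -1, -1, -1, 1, 1, -1, -1, -1, -1, -1, -1, -1]]

/-- Part of `vecs`. -/
def vecs1 : List (List ℤ) := [
  [-3, -1, -1, -1, 1, -1, 1, -1, -1, -1, 1, -1, 1, 1, 1, -1, 1, -1, -1, -1, -1, -1, -1, -1],
  [-3, -1, -1, 1, -1, -1, -1, -1, -1, 1, -1, 1, -1, -1, -1, 1, 1, -1, -1, -1, 1, 1, -1, -1],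
  [-3, -1, -1, -1, -1, -1, -1, 1, -1, 1, -1, 1, -1, 1, 1, -1, 1, -1, -1, -1, -1, -1, 1, -1],
  [-3, -1, -1, -1, -1, -1, 1, 1, 1, 1, -1, 1, -1, -1, -1, -1, -1, -1, -1, -1, 1, -1, -1, 1],
  [-3, -1, 1, -1, 1, 1, -1, 1, -1, -1, -1, -1, -1, 1, 1, -1, -1, -1, -1, -1, -1, 1, -1, -1],
  [-3, -1, -1, 1, -1, -1, 1, -1, 1, 1, -1, -1, -1, -1, 1, -1, 1, 1, -1, -1, -1, -1, -1, -1],
  [-3, -1, 1, 1, -1, 1, -1, -1, -1, 1, 1, -1, -1, 1, -1, -1, 1, -1, -1, -1, -1, -1, -1, -1],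
  [-3, -1, -1, -1, -1, 1, 1, -1, -1, 1, -1, 1, 1, -1, -1, -1, 1, -1, 1, -1, -1, -1, -1, -1],
  [-3, -1, -1, -1, 1, -1, -1, -1, 1, -1, 1, -1, 1, -1, -1, -1, -1, -1, -1, -1, 1, -1, 1, 1],
  [-3, -1, 1, -1, -1, -1, 1, -1, 1, -1, -1, -1, -1, -1, -1, 1, -1, 1, -1, -1, -1, -1, 1, 1],
  [-3, -1, -1, -1, 1, -1, 1, -1, -1, -1, -1, -1, -1, 1, -1, 1, -1, -1, -1, -1, 1, 1, -1, 1],
  [-3, -1, 1, -1, -1, -1, 1, 1, -1, -1, -1, 1, 1, -1, 1, -1, -1, 1, -1, -1, -1, -1, -1, -1],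
  [-3, -1, -1, 1, -1, -1, -1, -1, -1, 1, -1, -1, -1, 1, -1, -1, -1, 1, -1, -1, 1, -1, 1, 1],
  [-3, -1, 1, 1, 1, 1, -1, -1, -1, -1, -1, -1, -1, -1, -1, 1, -1, -1, -1, -1, 1, -1, 1, -1],
  [-3, -1, -1, -1, 1, 1, 1, 1, -1, -1, -1, -1, 1, -1, -1, -1, -1, -1, -1, 1, 1, -1, -1, -1],
  [-3, -1, 1, -1, -1, -1, 1, -1, 1, -1, -1, 1, -1, 1, -1, -1, 1, -1, -1, -1, -1, 1, -1, -1],
  [-3, -1, 1, 1, 1, -1, 1, -1, -1, -1, -1, -1, -1, 1, -1, -1, -1, 1, -1, 1, -1, -1, -1, -1],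
  [-3, -1, -1, -1, -1, -1, -1, -1, 1, 1, -1, -1, 1, 1, -1, 1, 1, -1, -1, -1, -1, -1, -1, 1],
  [-3, -1, -1, -1, 1, -1, 1, -1, -1, 1, -1, 1, -1, -1, 1, -1, -1, -1, -1, 1, -1, 1, -1, -1],
  [-3, -1, -1, -1, -1, -1, 1, -1, -1, 1, -1, -1, 1, -1, 1, 1, -1, -1, -1, -1, 1, -1, 1, -1],
  [-3, -1, 1, -1, 1, -1, -1, 1, 1, -1, -1, 1, -1, -1, -1, -1, -1, -1, -1, 1, -1, -1, 1, -1]]

/-- Part of `vecs`. -/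
def vecs2 : List (List ℤ) := [
  [-3, -1, -1, -1, -1, 1, -1, -1, -1, 1, -1, -1, 1, 1, 1, -1, -1, 1, -1, 1, -1, -1, -1, -1],
  [-3, -1, -1, 1, -1, -1, -1, -1, -1, -1, -1, 1, -1, -1, 1, 1, -1, 1, -1, 1, -1, -1, 1, -1],
  [-3, -1, 1, -1, -1, -1, -1, -1, -1, -1, 1, -1, 1, 1, -1, -1, -1, 1, -1, -1, -1, 1, -1, 1],
  [-3, -1, -1, 1, 1, -1, -1, 1, 1, -1, -1, -1, -1, 1, -1, -1, 1, -1, -1, -1, 1, -1, -1, -1],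
  [-3, -1, -1, -1, 1, -1, -1, 1, -1, 1, 1, -1, -1, 1, -1, -1, -1, -1, -1, 1, -1, -1, -1, 1],
  [-3, -1, -1, -1, 1, -1, -1, -1, -1, 1, -1, 1, -1, -1, -1, 1, -1, -1, 1, -1, -1, -1, 1, 1],
  [-3, -1, -1, -1, -1, -1, -1, 1, 1, -1, -1, 1, -1, -1, -1, 1, 1, 1, 1, -1, -1, -1, -1, -1],
  [-3, -1, -1, -1, 1, 1, -1, 1, -1, -1, 1, -1, -1, -1, -1, -1, 1, -1, 1, -1, -1, -1, 1, -1],
  [-3, -1, -1, -1, -1, 1, -1, -1, -1, -1, 1, 1, -1, -1, 1, -1, 1, 1, -1, -1, -1, 1, -1, -1],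
  [-3, -1, -1, -1, -1, -1, -1, -1, -1, -1, 1, -1, -1, -1, -1, 1, -1, 1, 1, -1, 1, 1, 1, -1],
  [-3, -1, -1, -1, -1, -1, -1, -1, -1, -1, -1, 1, 1, 1, 1, 1, -1, -1, 1, -1, -1, 1, -1, -1],
  [-3, -1, -1, 1, -1, -1, 1, -1, 1, -1, -1, -1, -1, -1, -1, -1, -1, -1, -1, 1, 1, 1, 1, -1],
  [-3, -1, 1, -1, 1, -1, -1, -1, -1, 1, -1, 1, 1, 1, -1, -1, -1, -1, -1, -1, 1, -1, -1, -1],
  [-3, -1, 1, -1, 1, 1, 1, -1, -1, -1, 1, 1, -1, -1, -1, -1, -1, -1, -1, -1, -1, -1, -1, 1],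
  [-3, -1, 1, -1, -1, -1, -1, -1, -1, -1, 1, 1, 1, -1, -1, 1, 1, -1, -1, -1, -1, -1, 1, -1],
  [-3, -1, -1, -1, -1, -1, -1, 1, -1, -1, -1, 1, -1, 1, -1, -1, -1, 1, -1, 1, 1, 1, -1, -1],
  [-3, -1, 1, -1, -1, 1, 1, -1, -1, 1, -1, -1, -1, -1, -1, -1, -1, 1, -1, -1, 1, 1, -1, -1],
  [-3, -1, -1, -1, 1, -1, -1, -1, 1, -1, -1, -1, -1, -1, 1, 1, 1, -1, -1, -1, -1, 1, 1, -1],
  [-3, -1, 1, -1, -1, -1, 1, 1, -1, -1, 1, -1, -1, 1, -1, -1, -1, -1, -1, -1, 1, -1, 1, -1],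
  [-3, -1, -1, 1, 1, 1, -1, -1, -1, -1, -1, -1, 1, 1, -1, -1, -1, -1, 1, -1, -1, -1, -1, 1],
  [-3, -1, -1, 1, -1, -1, -1, -1, 1, -1, 1, -1, 1, -1, -1, -1, 1, -1, 1, -1, -1, 1, -1, -1]]

/-- Part of `vecs`. -/
def vecs3 : List (List ℤ) := [
  [-3, -1, -1, 1, 1, -1, -1, 1, -1, -1, -1, -1, -1, -1, -1, 1, -1, -1, 1, 1, -1, 1, -1, -1],
  [-3, -1, -1, -1, 1, -1, 1, -1, -1, -1, -1, 1, -1, -1, -1, -1, 1, 1, -1, -1, 1, -1, 1, -1],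
  [-3, -1, 1, 1, -1, 1, 1, 1, 1, -1, -1, -1, -1, -1, -1, -1, -1, -1, 1, -1, -1, -1, -1, -1],
  [-3, -1, 1, 1, -1, -1, -1, -1, -1, 1, -1, -1, 1, -1, -1, 1, -1, 1, 1, -1, -1, -1, -1, -1],
  [-3, -1, 1, -1, 1, 1, -1, -1, 1, -1, -1, -1, 1, -1, -1, -1, 1, 1, -1, -1, -1, -1, -1, -1],
  [-3, -1, -1, -1, 1, 1, -1, -1, 1, -1, -1, 1, -1, -1, -1, -1, -1, -1, 1, -1, 1, 1, -1, -1],
  [-3, -1, 1, -1, -1, -1, -1, 1, 1, -1, -1, -1, 1, -1, -1, 1, -1, -1, -1, -1, 1, 1, -1, -1],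
  [-3, -1, -1, -1, -1, -1, -1, 1, -1, 1, 1, -1, 1, -1, -1, -1, 1, 1, -1, -1, 1, -1, -1, -1],
  [-3, -1, 1, -1, -1, -1, 1, -1, 1, 1, 1, -1, 1, -1, -1, -1, -1, -1, -1, 1, -1, -1, -1, -1],
  [-3, -1, -1, -1, 1, -1, -1, -1, -1, 1, -1, -1, -1, 1, -1, -1, 1, 1, 1, -1, -1, 1, -1, -1],
  [-3, -1, -1, 1, -1, 1, -1, 1, -1, -1, -1, -1, 1, -1, 1, 1, 1, -1, -1, -1, -1, -1, -1, -1],
  [-3, -1, -1, 1, -1, -1, -1, 1, -1, -1, 1, -1, -1, 1, 1, -1, -1, 1, 1, -1, -1, -1, -1, -1],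
  [-3, -1, -1, 1, -1, 1, -1, -1, 1, -1, -1, 1, -1, -1, -1, -1, 1, -1, -1, -1, -1, -1, 1, 1],
  [-3, -1, -1, -1, 1, 1, -1, -1, -1, -1, -1, -1, -1, -1, -1, -1, -1, 1, -1, 1, -1, 1, 1, 1],
  [-3, -1, 1, 1, -1, -1, -1, 1, -1, -1, -1, -1, -1, -1, -1, -1, 1, 1, -1, -1, -1, 1, 1, -1],
  [-3, -1, -1, -1, 1, -1, -1, -1, 1, -1, -1, 1, -1, 1, 1, -1, -1, 1, -1, -1, -1, -1, -1, 1],
  [-3, -1, -1, 1, 1, -1, -1, -1, -1, 1, -1, -1, 1, -1, -1, -1, 1, -1, -1, 1, -1, -1, 1, -1],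
  [-3, -1, -1, -1, -1, 1, -1, -1, -1, -1, -1, 1, 1, -1, -1, 1, -1, 1, -1, -1, 1, -1, -1, 1],
  [-3, -1, 1, -1, -1, 1, -1, -1, 1, 1, -1, 1, -1, -1, 1, 1, -1, -1, -1, -1, -1, -1, -1, -1],
  [-3, -1, 1, -1, -1, -1, -1, -1, -1, 1, -1, -1, -1, 1, -1, 1, -1, -1, -1, 1, -1, 1, 1, -1],
  [-3, -1, -1, -1, -1, -1, 1, 1, 1, -1, -1, -1, -1, 1, 1, 1, -1, -1, -1, 1, -1, -1, -1, -1]]

/-- Part of `vecs`. -/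
def vecs4 : List (List ℤ) := [
  [-3, -1, -1, -1, -1, -1, 1, 1, -1, -1, 1, -1, 1, -1, -1, 1, -1, -1, 1, -1, -1, -1, -1, 1],
  [-3, -1, -1, 1, -1, 1, -1, 1, -1, -1, 1, -1, -1, -1, -1, -1, -1, -1, -1, -1, 1, 1, -1, 1],
  [-3, -1, 1, 1, -1, -1, -1, 1, -1, -1, -1, 1, -1, 1, -1, 1, -1, -1, -1, -1, -1, -1, -1, 1],
  [-3, -1, -1, 1, -1, -1, -1, 1, 1, -1, -1, -1, 1, -1, -1, -1, -1, 1, -1, 1, -1, -1, -1, 1],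
  [-3, -1, 1, -1, -1, -1, -1, 1, -1, 1, 1, 1, -1, -1, -1, -1, -1, -1, 1, -1, -1, 1, -1, -1],
  [-3, -1, -1, 1, -1, -1, -1, -1, 1, 1, -1, 1, -1, 1, -1, -1, -1, -1, 1, 1, -1, -1, -1, -1],
  [-3, -1, -1, -1, -1, 1, -1, -1, 1, -1, -1, -1, 1, -1, -1, 1, -1, -1, 1, 1, -1, -1, 1, -1],
  [-3, -1, 1, 1, -1, 1, -1, -1, -1, -1, -1, 1, 1, -1, -1, -1, -1, -1, -1, 1, -1, 1, -1, -1],
  [-3, -1, -1, -1, -1, 1, -1, -1, 1, 1, 1, -1, -1, -1, -1, -1, -1, 1, 1, -1, -1, -1, -1, 1],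
  [-3, -1, 1, -1, 1, -1, 1, -1, -1, -1, -1, -1, 1, -1, -1, -1, -1, -1, 1, -1, -1, 1, 1, -1],
  [-3, -1, -1, -1, -1, 1, -1, 1, -1, 1, -1, -1, -1, 1, -1, 1, -1, -1, 1, -1, 1, -1, -1, -1],
  [-3, -1, -1, 1, -1, 1, 1, -1, -1, 1, -1, -1, -1, -1, -1, 1, -1, -1, -1, 1, -1, -1, -1, 1],
  [-3, -1, -1, -1, -1, 1, 1, -1, 1, -1, -1, -1, 1, -1, 1, -1, -1, -1, -1, -1, -1, 1, -1, 1],
  [-3, -1, -1, -1, -1, -1, 1, -1, 1, -1, -1, -1, 1, 1, -1, -1, -1, 1, 1, -1, 1, -1, -1, -1],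
  [-3, -1, -1, -1, -1, -1, 1, 1, -1, 1, -1, -1, -1, -1, -1, -1, -1, 1, 1, 1, -1, -1, 1, -1],
  [-3, -1, -1, -1, 1, 1, 1, -1, -1, -1, -1, -1, -1, -1, 1, 1, -1, 1, 1, -1, -1, -1, -1, -1],
  [-3, -1, -1, -1, -1, -1, 1, -1, -1, 1, 1, -1, -1, -1, -1, -1, 1, -1, -1, -1, -1, 1, 1, 1],
  [-3, -1, -1, -1, -1, 1, -1, -1, -1, -1, 1, -1, -1, 1, 1, 1, -1, -1, -1, -1, -1, -1, 1, 1],
  [-3, -1, -1, -1, -1, 1, 1, 1, -1, -1, -1, -1, -1, 1, -1, -1, 1, 1, -1, -1, -1, -1, -1, 1],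
  [-3, -1, -1, 1, 1, -1, -1, -1, -1, -1, 1, -1, -1, -1, -1, 1, 1, 1, -1, -1, -1, -1, -1, 1],
  [-3, -1, -1, 1, -1, -1, 1, -1, -1, -1, -1, 1, -1, -1, -1, -1, -1, 1, 1, -1, -1, 1, -1, 1]]

/-- Part of `vecs`. -/
def vecs5 : List (List ℤ) := [
  [-3, -1, -1, 1, -1, 1, -1, -1, -1, 1, -1, -1, -1, -1, 1, -1, -1, -1, 1, -1, -1, 1, 1, -1],
  [-3, -1, -1, -1, -1, -1, 1, -1, 1, -1, 1, 1, -1, -1, 1, -1, -1, -1, 1, -1, -1, -1, 1, -1],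
  [-3, -1, -1, -1, 1, -1, -1, -1, -1, -1, 1, 1, 1, -1, -1, -1, -1, 1, 1, 1, -1, -1, -1, -1],
  [-3, -1, -1, -1, -1, 1, -1, 1, 1, -1, -1, -1, -1, -1, 1, -1, -1, 1, -1, -1, 1, -1, 1, -1],
  [-3, -1, 1, -1, -1, 1, -1, 1, -1, -1, 1, -1, -1, -1, -1, 1, -1, 1, -1, 1, -1, -1, -1, -1],
  [-3, -1, -1, -1, -1, -1, -1, -1, 1, 1, 1, -1, -1, 1, 1, -1, -1, -1, -1, -1, 1, 1, -1, -1],
  [-3, -1, -1, -1, -1, 1, -1, 1, 1, 1, -1, -1, -1, -1, -1, -1, 1, -1, -1, 1, -1, 1, -1, -1],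
  [-3, -1, -1, -1, -1, 1, 1, -1, -1, -1, 1, -1, -1, 1, -1, -1, -1, -1, 1, 1, -1, 1, -1, -1],
  [-3, -1, -1, -1, 1, -1, -1, 1, 1, 1, -1, -1, 1, -1, 1, -1, -1, -1, 1, -1, -1, -1, -1, -1],
  [-3, -1, -1, -1, 1, -1, -1, 1, -1, -1, 1, 1, -1, -1, 1, 1, -1, -1, -1, -1, 1, -1, -1, -1],
  [-3, -1, -1, -1, -1, 1, -1, -1, -1, 1, 1, 1, -1, -1, -1, -1, -1, -1, -1, 1, 1, -1, 1, -1],
  [-3, -1, 1, 1, 1, -1, -1, -1, 1, 1, -1, -1, -1, -1, -1, -1, -1, -1, -1, -1, -1, 1, -1, 1],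
  [-3, -1, -1, 1, 1, -1, 1, -1, -1, 1, 1, -1, -1, -1, -1, -1, -1, -1, 1, -1, 1, -1, -1, -1],
  [-3, -1, -1, 1, -1, -1, 1, 1, -1, -1, 1, 1, -1, -1, -1, -1, 1, -1, -1, 1, -1, -1, -1, -1],
  [-3, -1, -1, -1, 1, -1, -1, 1, -1, -1, -1, 1, 1, -1, -1, -1, 1, -1, -1, -1, -1, 1, -1, 1],
  [-3, -1, -1, -1, -1, 1, -1, -1, -1, -1, -1, -1, 1, 1, -1, -1, 1, -1, -1, -1, 1, 1, 1, -1],
  [-3, -1, 1, -1, 1, -1, -1, -1, 1, -1, 1, -1, -1, 1, -1, 1, -1, -1, 1, -1, -1, -1, -1, -1],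
  [-3, -1, -1, -1, -1, 1, 1, -1, 1, -1, 1, -1, -1, -1, -1, 1, 1, -1, -1, -1, 1, -1, -1, -1],
  [-3, -1, -1, 1, 1, -1, -1, -1, -1, -1, -1, -1, 1, -1, 1, -1, -1, 1, -1, -1, 1, 1, -1, -1],
  [-3, -1, 1, -1, -1, 1, -1, 1, -1, 1, -1, -1, 1, -1, -1, -1, -1, -1, -1, -1, -1, -1, 1, 1],
  [-3, -1, 1, 1, -1, -1, -1, -1, 1, -1, -1, -1, 1, 1, 1, -1, -1, -1, -1, -1, -1, -1, 1, -1]]

/-- One vector of each pair. -/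
def vecs : List (List ℤ) := vecs0 ++ vecs1 ++ vecs2 ++ vecs3 ++ vecs4 ++ vecs5

/-- The first lattice automorphism. -/
def matA : List (List ℤ) := [
    [6, -2, 0, 0, 2, 2, 0, 2, 2, 0, 0, 0, 0, 0, 0, 2, 0, 0, 0, 0, 0, 0, 0, 2],
    [-2, 6, 0, 0, 2, 2, 0, 2, 2, 0, 0, 0, 0, 0, 0, 2, 0, 0, 0, 0, 0, 0, 0, 2],
    [0, 0, 2, 2, 0, 0, -2, 0, 0, 2, -2, -2, -2, 2, 2, 0, 2, 2, 2, 2, -2, -2, 2, 0],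
    [0, 0, 2, 2, 0, 0, 2, 0, 0, -2, 2, -2, 2, 2, -2, 0, 2, -2, -2, 2, -2, 2, 2, 0],
    [2, 2, 0, 0, -2, 6, 0, -2, -2, 0, 0, 0, 0, 0, 0, -2, 0, 0, 0, 0, 0, 0, 0, -2],
    [2, 2, 0, 0, 6, -2, 0, -2, -2, 0, 0, 0, 0, 0, 0, -2, 0, 0, 0, 0, 0, 0, 0, -2],
    [0, 0, -2, 2, 0, 0, 2, 0, 0, 2, 2, 2, -2, 2, 2, 0, 2, -2, 2, -2, -2, 2, -2, 0],
    [2, 2, 0, 0, -2, -2, 0, 6, -2, 0, 0, 0, 0, 0, 0, -2, 0, 0, 0, 0, 0, 0, 0, -2],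
    [2, 2, 0, 0, -2, -2, 0, -2, 6, 0, 0, 0, 0, 0, 0, -2, 0, 0, 0, 0, 0, 0, 0, -2],
    [0, 0, 2, -2, 0, 0, 2, 0, 0, 2, -2, 2, 2, 2, -2, 0, -2, 2, 2, 2, -2, 2, -2, 0],
    [0, 0, -2, 2, 0, 0, 2, 0, 0, -2, 2, 2, -2, 2, -2, 0, -2, 2, 2, 2, 2, -2, 2, 0],
    [0, 0, -2, -2, 0, 0, 2, 0, 0, 2, 2, 2, 2, -2, 2, 0, 2, 2, -2, 2, -2, -2, 2, 0],
    [0, 0, -2, 2, 0, 0, -2, 0, 0, 2, -2, 2, 2, 2, 2, 0, -2, -2, -2, 2, 2, 2, 2, 0],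
    [0, 0, 2, 2, 0, 0, 2, 0, 0, 2, 2, -2, 2, 2, 2, 0, -2, 2, -2, -2, 2, -2, -2, 0],
    [0, 0, 2, -2, 0, 0, 2, 0, 0, -2, -2, 2, 2, 2, 2, 0, 2, -2, 2, -2, 2, -2, 2, 0],
    [2, 2, 0, 0, -2, -2, 0, -2, -2, 0, 0, 0, 0, 0, 0, 6, 0, 0, 0, 0, 0, 0, 0, -2],
    [0, 0, 2, 2, 0, 0, 2, 0, 0, -2, -2, 2, -2, -2, 2, 0, 2, 2, -2, 2, 2, 2, -2, 0],
    [0, 0, 2, -2, 0, 0, -2, 0, 0, 2, 2, 2, -2, 2, -2, 0, 2, 2, -2, -2, 2, 2, 2, 0],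
    [0, 0, 2, -2, 0, 0, 2, 0, 0, 2, 2, -2, -2, -2, 2, 0, -2, -2, 2, 2, 2, 2, 2, 0],
    [0, 0, 2, 2, 0, 0, -2, 0, 0, 2, 2, 2, 2, -2, -2, 0, 2, -2, 2, 2, 2, -2, -2, 0],
    [0, 0, -2, -2, 0, 0, -2, 0, 0, -2, 2, -2, 2, 2, 2, 0, 2, 2, 2, 2, 2, 2, -2, 0],
    [0, 0, -2, 2, 0, 0, 2, 0, 0, 2, -2, -2, 2, -2, -2, 0, 2, 2, 2, -2, 2, 2, 2, 0],
    [0, 0, 2, 2, 0, 0, -2, 0, 0, -2, 2, 2, 2, -2, 2, 0, -2, 2, 2, -2, -2, 2, 2, 0],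
    [2, 2, 0, 0, -2, -2, 0, -2, -2, 0, 0, 0, 0, 0, 0, -2, 0, 0, 0, 0, 0, 0, 0, 6]]

/-- The second lattice automorphism. -/
def matB : List (List ℤ) := [
    [6, -2, 2, 2, 0, 0, 2, 0, 0, 2, 0, 2, 0, 0, 0, 0, 0, 0, 0, 0, 0, 0, 2, 0],
    [-2, 6, 2, 2, 0, 0, 2, 0, 0, 2, 0, 2, 0, 0, 0, 0, 0, 0, 0, 0, 0, 0, 2, 0],
    [0, 0, 0, 0, -2, -2, 0, -2, -2, 0, 2, 0, 2, 2, 2, -2, 2, 2, 2, 2, 2, 2, 0, -2],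
    [0, 0, 0, 0, 2, 2, 0, -2, 2, 0, 2, 0, -2, -2, -2, 2, 2, 2, 2, 2, -2, 2, 0, -2],
    [0, 0, 0, 0, 2, 2, 0, 2, -2, 0, 2, 0, 2, 2, 2, 2, -2, -2, 2, 2, -2, -2, 0, -2],
    [0, 0, 0, 0, 2, 2, 0, -2, -2, 0, -2, 0, 2, 2, 2, 2, 2, 2, -2, -2, -2, 2, 0, 2],
    [0, 0, 0, 0, -2, 2, 0, 2, 2, 0, 2, 0, -2, 2, 2, -2, -2, 2, -2, 2, -2, 2, 0, 2],
    [0, 0, 0, 0, 2, 2, 0, 2, 2, 0, 2, 0, 2, -2, 2, -2, 2, -2, -2, -2, 2, 2, 0, -2],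
    [2, 2, -2, -2, 0, 0, -2, 0, 0, -2, 0, 6, 0, 0, 0, 0, 0, 0, 0, 0, 0, 0, -2, 0],
    [0, 0, 0, 0, 2, -2, 0, 2, -2, 0, 2, 0, 2, -2, -2, 2, -2, 2, -2, 2, 2, 2, 0, 2],
    [0, 0, 0, 0, -2, 2, 0, 2, 2, 0, -2, 0, 2, 2, -2, 2, 2, 2, -2, 2, 2, -2, 0, -2],
    [2, 2, -2, -2, 0, 0, -2, 0, 0, 6, 0, -2, 0, 0, 0, 0, 0, 0, 0, 0, 0, 0, -2, 0],
    [0, 0, 0, 0, 2, -2, 0, 2, 2, 0, -2, 0, -2, 2, 2, 2, -2, 2, 2, -2, 2, 2, 0, -2],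
    [2, 2, -2, -2, 0, 0, 6, 0, 0, -2, 0, -2, 0, 0, 0, 0, 0, 0, 0, 0, 0, 0, -2, 0],
    [0, 0, 0, 0, 2, -2, 0, -2, 2, 0, 2, 0, -2, 2, 2, 2, 2, -2, -2, 2, 2, -2, 0, 2],
    [2, 2, -2, -2, 0, 0, -2, 0, 0, -2, 0, -2, 0, 0, 0, 0, 0, 0, 0, 0, 0, 0, 6, 0],
    [0, 0, 0, 0, -2, -2, 0, 2, 2, 0, -2, 0, 2, -2, 2, 2, 2, -2, 2, 2, -2, 2, 0, 2],
    [0, 0, 0, 0, -2, 2, 0, -2, 2, 0, 2, 0, 2, 2, -2, 2, -2, -2, 2, -2, 2, 2, 0, 2],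
    [0, 0, 0, 0, -2, 2, 0, 2, -2, 0, 2, 0, -2, -2, 2, 2, 2, 2, 2, -2, 2, -2, 0, 2],
    [0, 0, 0, 0, 2, 2, 0, 2, -2, 0, -2, 0, -2, 2, -2, -2, 2, -2, 2, 2, 2, 2, 0, 2],
    [2, 2, 6, -2, 0, 0, -2, 0, 0, -2, 0, -2, 0, 0, 0, 0, 0, 0, 0, 0, 0, 0, -2, 0],
    [0, 0, 0, 0, 2, -2, 0, 2, 2, 0, 2, 0, 2, 2, -2, -2, 2, 2, 2, -2, -2, -2, 0, 2],
    [2, 2, -2, 6, 0, 0, -2, 0, 0, -2, 0, -2, 0, 0, 0, 0, 0, 0, 0, 0, 0, 0, -2, 0],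
    [0, 0, 0, 0, 2, 2, 0, -2, 2, 0, -2, 0, 2, -2, 2, -2, -2, 2, 2, 2, 2, -2, 0, 2]]

/-- Part of `pts`. -/
def pts0 : List (List (ℕ × ℕ)) := [
  [(1, 0), (2, 4), (0, 3)],
  [(1, 0), (1, 0), (0, 4)],
  [(1, 0), (0, 2), (2, 1)],
  [(1, 0), (3, 4), (3, 1)],
  [(1, 0), (0, 3), (2, 4)],
  [(1, 0), (2, 4), (2, 1)],
  [(1, 0), (0, 0), (4, 1)],
  [(1, 0), (3, 1), (2, 1)],
  [(1, 0), (0, 1), (3, 2)],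
  [(1, 0), (3, 1), (3, 1)],
  [(1, 0), (3, 2), (0, 4)],
  [(1, 0), (3, 1), (3, 4)],
  [(1, 0), (0, 1), (2, 3)],
  [(1, 0), (2, 4), (2, 4)],
  [(1, 0), (2, 4), (3, 1)],
  [(1, 0), (3, 1), (0, 2)],
  [(1, 0), (2, 2), (4, 2)],
  [(1, 0), (0, 4), (2, 3)],
  [(1, 0), (2, 2), (4, 3)],
  [(0, 0), (1, 0), (3, 0)],
  [(1, 0), (4, 2), (3, 3)]]

/-- Part of `pts`. -/
def pts1 : List (List (ℕ × ℕ)) := [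
  [(1, 0), (3, 3), (4, 3)],
  [(1, 0), (1, 3), (2, 3)],
  [(1, 0), (3, 4), (2, 1)],
  [(1, 0), (4, 1), (0, 0)],
  [(1, 0), (0, 3), (3, 1)],
  [(1, 0), (4, 3), (2, 3)],
  [(1, 0), (4, 0), (0, 4)],
  [(1, 0), (4, 2), (1, 0)],
  [(1, 0), (0, 1), (2, 2)],
  [(1, 0), (4, 2), (2, 3)],
  [(1, 0), (4, 0), (1, 2)],
  [(1, 0), (2, 1), (0, 2)],
  [(1, 0), (2, 3), (0, 4)],
  [(1, 0), (1, 2), (2, 3)],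
  [(1, 0), (1, 0), (1, 2)],
  [(1, 0), (3, 4), (2, 4)],
  [(1, 0), (0, 4), (4, 0)],
  [(1, 0), (0, 2), (3, 4)],
  [(1, 0), (2, 4), (0, 2)],
  [(1, 0), (2, 1), (3, 1)],
  [(1, 0), (1, 3), (1, 0)]]

/-- Part of `pts`. -/
def pts2 : List (List (ℕ × ℕ)) := [
  [(1, 0), (0, 3), (3, 4)],
  [(1, 0), (1, 2), (4, 0)],
  [(1, 0), (4, 3), (3, 3)],
  [(1, 0), (3, 2), (4, 2)],
  [(1, 0), (3, 1), (0, 3)],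
  [(1, 0), (2, 1), (2, 4)],
  [(1, 0), (2, 1), (0, 3)],
  [(1, 0), (2, 2), (0, 4)],
  [(1, 0), (1, 2), (2, 2)],
  [(1, 0), (3, 3), (0, 4)],
  [(1, 0), (2, 3), (1, 2)],
  [(1, 0), (3, 2), (4, 3)],
  [(1, 0), (1, 3), (3, 2)],
  [(1, 0), (2, 1), (2, 1)],
  [(1, 0), (1, 4), (0, 0)],
  [(1, 0), (2, 3), (4, 2)],
  [(1, 0), (4, 3), (4, 0)],
  [(1, 0), (3, 1), (2, 4)],
  [(1, 0), (0, 3), (2, 1)],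
  [(1, 0), (1, 3), (4, 0)],
  [(1, 0), (4, 3), (2, 2)]]

/-- Part of `pts`. -/
def pts3 : List (List (ℕ × ℕ)) := [
  [(1, 0), (1, 3), (2, 2)],
  [(1, 0), (2, 0), (0, 0)],
  [(0, 0), (1, 0), (1, 1)],
  [(1, 0), (2, 3), (4, 3)],
  [(1, 0), (1, 2), (3, 3)],
  [(1, 0), (4, 3), (1, 0)],
  [(1, 0), (0, 2), (3, 1)],
  [(1, 0), (0, 3), (0, 2)],
  [(1, 0), (0, 4), (3, 2)],
  [(1, 0), (0, 2), (0, 2)],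
  [(1, 0), (3, 2), (1, 2)],
  [(1, 0), (3, 4), (0, 3)],
  [(1, 0), (1, 3), (3, 3)],
  [(1, 0), (0, 4), (2, 2)],
  [(0, 0), (1, 0), (1, 4)],
  [(1, 0), (4, 3), (3, 2)],
  [(0, 0), (1, 0), (4, 4)],
  [(1, 0), (4, 2), (4, 0)],
  [(1, 0), (3, 0), (0, 0)],
  [(1, 0), (4, 0), (4, 2)],
  [(1, 0), (0, 0), (2, 0)]]

/-- Part of `pts`. -/
def pts4 : List (List (ℕ × ℕ)) := [
  [(1, 0), (1, 1), (0, 0)],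
  [(1, 0), (1, 2), (1, 0)],
  [(1, 0), (0, 4), (3, 3)],
  [(1, 0), (1, 2), (3, 2)],
  [(1, 0), (0, 2), (2, 4)],
  [(1, 0), (2, 2), (0, 1)],
  [(1, 0), (3, 2), (1, 3)],
  [(1, 0), (1, 0), (0, 1)],
  [(1, 0), (0, 0), (4, 4)],
  [(1, 0), (3, 3), (0, 1)],
  [(1, 0), (0, 0), (1, 4)],
  [(0, 0), (1, 0), (4, 1)],
  [(1, 0), (0, 0), (1, 1)],
  [(1, 0), (1, 0), (1, 3)],
  [(1, 0), (4, 0), (0, 1)],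
  [(1, 0), (4, 4), (0, 0)],
  [(1, 0), (0, 1), (3, 3)],
  [(1, 0), (2, 3), (1, 3)],
  [(1, 0), (4, 0), (1, 3)],
  [(1, 0), (3, 3), (1, 2)],
  [(1, 0), (1, 0), (4, 2)]]

/-- Part of `pts`. -/
def pts5 : List (List (ℕ × ℕ)) := [
  [(1, 0), (0, 1), (4, 0)],
  [(1, 0), (4, 2), (3, 2)],
  [(1, 0), (2, 2), (1, 2)],
  [(1, 0), (2, 4), (3, 4)],
  [(1, 0), (2, 3), (0, 1)],
  [(1, 0), (3, 3), (1, 3)],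
  [(1, 0), (2, 2), (1, 3)],
  [(1, 0), (3, 4), (3, 4)],
  [(0, 0), (1, 0), (2, 0)],
  [(1, 0), (4, 2), (2, 2)],
  [(1, 0), (3, 4), (0, 2)],
  [(1, 0), (3, 3), (4, 2)],
  [(1, 0), (4, 0), (4, 3)],
  [(1, 0), (0, 1), (1, 0)],
  [(1, 0), (0, 3), (0, 3)],
  [(1, 0), (0, 0), (3, 0)],
  [(1, 0), (3, 2), (0, 1)],
  [(1, 0), (2, 1), (3, 4)],
  [(1, 0), (0, 2), (0, 3)],
  [(1, 0), (0, 4), (1, 0)],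
  [(1, 0), (1, 0), (4, 3)]]

/-- The isotropic points; `(a, b)` stands for `a + b √2`. -/
def pts : List (List (ℕ × ℕ)) := pts0 ++ pts1 ++ pts2 ++ pts3 ++ pts4 ++ pts5

/-- The first unitary matrix. -/
def uA : List (List (ℕ × ℕ)) := [[(1, 0), (1, 3), (2, 4)], [(1, 2), (3, 0), (4, 4)], [(2, 1), (4, 1), (0, 0)]]

/-- The second unitary matrix. -/
def uB : List (List (ℕ × ℕ)) := [[(4, 3), (0, 0), (4, 2)], [(2, 4), (3, 1), (3, 4)], [(4, 0), (3, 0), (3, 2)]]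

end CfsgLib.HSUnitary.Data
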