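import Cfsg.Agent.Lib.Leech.Cert.Mats

/-!
Kernel data: a spanning tree of an orbit of a minimal vector.
The numbers were found by computer search; everything about them is checked by the kernel.
-/

set_option autoImplicit false

namespace CfsgLib.Leech.Cert

namespace Orb100

/-- The root. -/
def root : List ℤ := [4, 4, 0, 0, 0, 0, 0, 0, 0, 0, 0, 0, 0, 0, 0, 0, 0, 0, 0, 0, 0, 0, 0, 0]

/-- The key of the root. -/
def k0 : ℕ := 971571646221805405920160680140309333529584665782364283155973581232057625421310640140

theorem root_mem : memTest root = true := by decide +kernel

theorem root_key : keyL root = k0 := by decide +kernel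

/-- The packed operations. -/
def ops : List ℕ := [125292091344031889763286984861816149, 171970658500221218968080009727632746840, 11090956526483960548328439629715431426,
    340282366920938463463374607431768207362]

theorem count :
    countD 60 ((certKeys dataC1 dataC2 k0 ops).map hashKey) = 100 := by
  decide +kernel

end Orb100

end CfsgLib.Leech.Cert
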