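import Cfsg.Agent.Lib.Leech.Cert.Mats

/-!
Kernel data: a spanning tree of an orbit of a minimal vector.
The numbers were found by computer search; everything about them is checked by the kernel.
-/

set_option autoImplicit false

namespace CfsgLib.Leech.Cert

namespace Orb1100

/-- The root. -/
def root : List ℤ := [-4, 0, 4, 0, 0, 0, 0, 0, 0, 0, 0, 0, 0, 0, 0, 0, 0, 0, 0, 0, 0, 0, 0, 0]

/-- The key of the root. -/
def k0 : ℕ := 971571646221805405920160680140309333529584665782364283155973581232057625421377732612

theorem root_mem : memTest root = true := by decide +kernel

theorem root_key : keyL root = k0 := by decide +kernel

/-- The packed operations. -/
def ops : List ℕ := [135168949803168036273402103877424469, 214504198718979094884374099121928182150, 3352279207436425470874555929109497216,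
    10919542920806529711323605800845466, 49846057962937236323721298887946282326, 501168388371528965990863742433363288,
    135581938209819836542267170523520705880, 127649535548973454308858880822994274401, 223507661714319912064396620358909722977,
    177285905837775273733139191970671452160, 3351735808240155678259704029251674117, 29744080585874606307005436120690983046,
    34587948039432878271668715750594448000, 114717734576278031295417790576596352, 28414892095355084103231399578260563296,
    170587721790633981691236277360070235656, 446538054765909023754605391750661657, 12406993504507562784169266281540232792,
    10922127514719778923319187379586562, 223352612517864276512060934576514105686, 44363187936501027688559719441839947776,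
    56326201227381316095859581066016216576, 44557708273866697284189772205528547328, 8100172722018544284392118780684674560,
    170184790680835138885751700968932772192, 213455334478413326779715596308252723285, 28581674349528327341024470357820612992,
    178119808690631308583916133759606980738, 113649044358439410056292334253716668422, 2783721846941219504761932105904128161,
    173266949543119347059744518402981528920, 7341918377125951029631416670809849888, 44363154858739957228197249896488992774,
    170816346004905963399665753392001712472, 340282366920938463463374589839617294950]

theorem count :
    countD 60 ((certKeys dataC1 dataC2 k0 ops).map hashKey) = 1100 := by
  decide +kernel

end Orb1100

end CfsgLib.Leech.Cert
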