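import Cfsg.Agent.Lib.Leech.Cert.Mats

/-!
Kernel data: a spanning tree of an orbit of a minimal vector.
The numbers were found by computer search; everything about them is checked by the kernel.
-/

set_option autoImplicit false

namespace CfsgLib.Leech.Cert

namespace Orb1232

/-- The root. -/
def root : List ℤ := [1, 3, -1, 1, 1, 1, 1, 1, 1, 1, 1, 1, 1, 1, -1, 1, -1, 1, -1, -1, -1, 1, 1, -1]

/-- The key of the root. -/
def k0 : ℕ := 850184490467780390736773313433949520086477376002592022871863594711424009956023644169

theorem root_mem : memTest root = true := by decide +kernel

theorem root_key : keyL root = k0 := by decide +kernel

/-- The packed operations. -/
def ops : List ℕ := [3335404875233655947471070499827111253, 10831618223217997729448664602750117248, 3105155988757946078798976997662217728,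
    172916466636442987429382498692777411094, 225982176097591792989021192298477217280, 2118505329341281811956777495488387072,
    31943463459446281721486370317464147458, 2706930983199824153835184689903960160, 127814015581848929949167764008319975464,
    116974662978196451480953397417552117800, 33895993858317371465820390943772116634, 29285230375668499660861750537795668064,
    220655123094315960989216937268303373696, 501544088376200637396312490985740288, 12629724625276172583397874093827577184,
    114315717802033958193166126605061677062, 29292991952724425414372927674016471560, 3447735930889212018195862439302881280,
    10744811953395013779970986000721993728, 170642676189184218014908028401887051910, 7339314785476606918063193183067922442,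
    134750490134291561117889675736102887456, 12659009891280216670922002340486972800, 177452071834711015448016068549158109312,
    32074764932763306650261364378206560288, 127780265661437380301914858969708402048, 202045363102266910738249302210003501065,
    33898561086029408076974549881393340425, 202094605424040374809645464635894792202, 212788126391153589106496571699490203138,
    199384322805862979590323139714979553282, 7476958684095747313741526584604516736, 178124833630576002897210819866896996354,
    114313658529225487104677924537530091008, 213119568846254663362970941160318042721, 197500009783577002840905344717293952,
    11140722462799179094250874052800940566, 8641726267371986393581778777760355712, 340282366920938463462221686296562468224]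

theorem count :
    countD 60 ((certKeys dataF1 dataF2 k0 ops).map hashKey) = 1232 := by
  decide +kernel

end Orb1232

end CfsgLib.Leech.Cert
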