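import Cfsg.Agent.Lib.Leech.Cert.Mats

/-!
Kernel data: a spanning tree of an orbit of a minimal vector.
The numbers were found by computer search; everything about them is checked by the kernel.
-/

set_option autoImplicit false

namespace CfsgLib.Leech.Cert

namespace Orb162

/-- The root. -/
def root : List ℤ := [4, 0, 4, 0, 0, 0, 0, 0, 0, 0, 0, 0, 0, 0, 0, 0, 0, 0, 0, 0, 0, 0, 0, 0]

/-- The key of the root. -/
def k0 : ℕ := 971571646221805405920160680140309333529584665782364283155973581232057625421377732620

theorem root_mem : memTest root = true := by decide +kernel

theorem root_key : keyL root = k0 := by decide +kernel

/-- The packed operations. -/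
def ops : List ℕ := [116972266619555551462539863740869813589, 11092533479043698257934783505032550485, 127814255761482382462841910426542809094,
    170267747624513621291088030410683285601, 666360187224752520282070911079680097, 340282366920938463463374607431768211440]

theorem count :
    countD 60 ((certKeys dataB1 dataB2 k0 ops).map hashKey) = 162 := by
  decide +kernel

end Orb162

end CfsgLib.Leech.Cert
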