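import Cfsg.Agent.Lib.Leech.Cert.Mats

/-!
Kernel data: a spanning tree of an orbit of a minimal vector.
The numbers were found by computer search; everything about them is checked by the kernel.
-/

set_option autoImplicit false

namespace CfsgLib.Leech.Cert

namespace Orb2025

/-- The root. -/
def root : List ℤ := [4, 0, 0, 0, 0, 0, 0, 0, 0, 0, 0, 0, 0, 0, 0, 0, 0, 0, 0, 0, 0, 0, 0, -4]

/-- The key of the root. -/
def k0 : ℕ := 485904423165373138190295203434429606868982956019329402843020478797331554120008499212

theorem root_mem : memTest root = true := by decide +kernel

theorem root_key : keyL root = k0 := by decide +kernel

/-- The packed operations. -/
def ops : List ℕ := [8003304458688112092439830889240221013, 202051120730663528535281952125521057792, 135695493714386821941235213599093336578,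
    113482873138693520332927357092084842624, 173298776031603829104937388783589393921, 129392044848123954672741830579049204233,
    127618219736177295149439431581673979905, 113482893388116519246588559275669872677, 116974707961068454729888423711005612064,
    114317021895945862278879797649281816673, 113427671986645743264430612114514248066, 28412299165871542873554433952870176776,
    170816616222438399341157345884467757442, 33798107771235436081966506775151237, 127779938558886541540679843476119003546,
    54997626383613686601944438423232545285, 8641726905261274681096016227902783616, 138267620639230094276734989260260268032,
    29250846622637758845380767117647808512, 43202629409328752744565529672769634438, 127657999919402885795950005051150663680,
    2025431856719922098981690216743446040, 53654579332461609197178031387451432, 177245016301163773712617989509518333462,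
    170670960481339697187028723860226343425, 177285786582159492367017421438588026902, 128384740165798019650259893263026782357,
    54561385288155766029452359021101064, 172913910745978540874354510703822722560, 695879342702967763712619613968685093,
    446590147418008257900293894340763734, 7090081363317782979310831779606201696, 170153637495673924829420787048787222936,
    170670848882553725931717330955873052165, 32358446471439987698690553378044772354, 32013108935866174215506787451392065568,
    127613039046987230101387733609125257568, 12462325460324011204308456975678046745, 44536115195968435930528923679572623746,
    33729167366774353676333422502600900768, 42743116247731841257644771809559666694, 28412250321462883004338124533057213824,
    116999809995171124113956962552895768598, 1957438220631938159599845533681025, 114314461519034389711809914025753470294,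
    790973416686801600521389764346224770, 170170390612270013587266384168640190568, 114314054049229224724658310325871843365,
    113482842702711954984763849677866014729, 214511145166921268688394722697257967746, 170141236711724066879721811629154074752,
    223504365434620757541036402637391889749, 128395144715103148406136223753098503680, 170642248139080184400808654730917052426,
    49627973482821264639566626025517744773, 113649186483474047608565224369480541704, 114313619680648478764628403573848410464,
    127648197342264488691064134872355309973, 28578592532537811365387460688000452645, 170144459230656396666833018203187577474,
    116972834525747836022561377907845928277, 10806954802871498077563225587545279105, 51175957486614320198823467656206974982,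
    340282366920938463463374607427473244264]

theorem count :
    countD 60 ((certKeys dataA1 dataA2 k0 ops).map hashKey) = 2025 := by
  decide +kernel

end Orb2025

end CfsgLib.Leech.Cert
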