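import Cfsg.Agent.Lib.Leech.Cert.Mats

/-!
Kernel data: a spanning tree of an orbit of a minimal vector.
The numbers were found by computer search; everything about them is checked by the kernel.
-/

set_option autoImplicit false

namespace CfsgLib.Leech.Cert

namespace Orb22

/-- The root. -/
def root : List ℤ := [1, 1, -3, 1, 1, 1, 1, 1, 1, 1, 1, 1, 1, 1, 1, 1, 1, 1, 1, 1, 1, 1, 1, 1]

/-- The key of the root. -/
def k0 : ℕ := 1093018101999531081660180765157848000220782749005159818550470278886064828598907342857

theorem root_mem : memTest root = true := by decide +kernel

theorem root_key : keyL root = k0 := by decide +kernel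

/-- The packed operations. -/
def ops : List ℕ := [340282366920919122533567445506520908117]

theorem count :
    countD 60 ((certKeys dataD1 dataD2 k0 ops).map hashKey) = 22 := by
  decide +kernel

end Orb22

end CfsgLib.Leech.Cert
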