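import Cfsg.Agent.Lib.Leech.Cert.Mats

/-!
Kernel data: a spanning tree of an orbit of a minimal vector.
The numbers were found by computer search; everything about them is checked by the kernel.
-/

set_option autoImplicit false

namespace CfsgLib.Leech.Cert

namespace Orb275

/-- The root. -/
def root : List ℤ := [4, 4, 0, 0, 0, 0, 0, 0, 0, 0, 0, 0, 0, 0, 0, 0, 0, 0, 0, 0, 0, 0, 0, 0]

/-- The key of the root. -/
def k0 : ℕ := 971571646221805405920160680140309333529584665782364283155973581232057625421310640140

theorem root_mem : memTest root = true := by decide +kernel

theorem root_key : keyL root = k0 := by decide +kernel

/-- The packed operations. -/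
def ops : List ℕ := [29292344418450784161644226292981335381, 177244904748697178067402742638185633280, 135591692560828602848080230456801887746,
    874097537913141777113305881147103233, 113430917201765365834267388871742851606, 8100419183916081231021897684569382920,
    12420176936991208673845118179032957344, 178166000111195511567859104648297185368, 340282366920938458741586860616864890881]

theorem count :
    countD 60 ((certKeys dataA1 dataA2 k0 ops).map hashKey) = 275 := by
  decide +kernel

end Orb275

end CfsgLib.Leech.Cert
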