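import Cfsg.Agent.Lib.Leech.Cert.Mats

/-!
Kernel data: a spanning tree of an orbit of a minimal vector.
The numbers were found by computer search; everything about them is checked by the kernel.
-/

set_option autoImplicit false

namespace CfsgLib.Leech.Cert

namespace Orb330

/-- The root. -/
def root : List ℤ := [0, 2, 0, 2, 0, 0, 0, 0, 0, 0, 0, 0, 0, 0, 2, 2, 2, 2, 2, 0, 0, 2, 0, 0]

/-- The key of the root. -/
def k0 : ℕ := 971571660695816560795361125998482330844158164405997808958382788770009329437140623368

theorem root_mem : memTest root = true := by decide +kernel

theorem root_key : keyL root = k0 := by decide +kernel

/-- The packed operations. -/
def ops : List ℕ := [113649005689254580627685402706266182997, 32096184944271793030804973633511361025, 116973848646383494368956216540315123744,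
    114314289739214819455946822165488369829, 173298211668770704880094326137894733441, 127605930068456419854533674167134848512,
    198553594339324743699058050115841689685, 116972116910430177790453059117333371392, 127613704047843708216312260681187459753,
    202055684707979656607227792830333321749, 340282366920938463463374607363048905216]

theorem count :
    countD 60 ((certKeys dataF1 dataF2 k0 ops).map hashKey) = 330 := by
  decide +kernel

end Orb330

end CfsgLib.Leech.Cert
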