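import Cfsg.Agent.Lib.Leech.Cert.Mats

/-!
Kernel data: a spanning tree of an orbit of a minimal vector.
The numbers were found by computer search; everything about them is checked by the kernel.
-/

set_option autoImplicit false

namespace CfsgLib.Leech.Cert

namespace Orb352

/-- The root. -/
def root : List ℤ := [0, -2, -2, 0, 0, 0, 0, 0, 0, 0, 0, 0, 0, 0, -2, 0, -2, 0, -2, -2, -2, 0, 0, -2]

/-- The key of the root. -/
def k0 : ℕ := 728738034690054714996753228416410853395279292779796487477366897057416806778359799816

theorem root_mem : memTest root = true := by decide +kernel

theorem root_key : keyL root = k0 := by decide +kernel

/-- The packed operations. -/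
def ops : List ℕ := [675445004393411879384350998184727893, 32013106806231514189609085369908726102, 456935599158847304882553277759488514,
    197334535893295967265949023589258624, 13340958217969821718809697727832678486, 170587911138360360595124323298729920600,
    116982617612726875439908970608934092833, 170584476558059607298357996964359438869, 7090081372735316139020155573144912386,
    113482847792463961210256043060736166240, 319014749894793353662913294980465918472]

theorem count :
    countD 60 ((certKeys dataC1 dataC2 k0 ops).map hashKey) = 352 := by
  decide +kernel

end Orb352

end CfsgLib.Leech.Cert
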