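import Cfsg.Agent.Lib.Leech.Cert.Mats

/-!
Kernel data: a spanning tree of an orbit of a minimal vector.
The numbers were found by computer search; everything about them is checked by the kernel.
-/

set_option autoImplicit false

namespace CfsgLib.Leech.Cert

namespace Orb462

/-- The root. -/
def root : List ℤ := [2, -2, 0, 0, 0, 0, 0, 0, 0, 0, 0, 0, 0, 2, 0, 2, 0, 2, 2, 2, 0, 0, 0, -2]

/-- The key of the root. -/
def k0 : ℕ := 728738034693590134984197295965438551892839476066403740058950675066686112666897899530

theorem root_mem : memTest root = true := by decide +kernel

theorem root_key : keyL root = k0 := by decide +kernel

/-- The packed operations. -/
def ops : List ℕ := [32012457276481999003798425301691028821, 173257213267471143504478821706234333280, 128272475959104409405720395382529589281,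
    178127128713650742322112773270872162401, 667656557819282851231415425483538517, 2783731997940686175628113742259037782,
    3102397581054882804988111590240311334, 3335565699313892227714963177458893222, 33792184613379221915830714634961408,
    173243580999443914913647399505659823446, 29251291239505745864516887409602333186, 3354416493763587628467641394087418368,
    53337977707445685437818813049108179360, 114314289000348419599731711267361524064, 340282366920938463463370103867139686752]

theorem count :
    countD 60 ((certKeys dataF1 dataF2 k0 ops).map hashKey) = 462 := by
  decide +kernel

end Orb462

end CfsgLib.Leech.Cert
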