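import Cfsg.Agent.Lib.Leech.Cert.Mats

/-!
Kernel data: a spanning tree of an orbit of a minimal vector.
The numbers were found by computer search; everything about them is checked by the kernel.
-/

set_option autoImplicit false

namespace CfsgLib.Leech.Cert

namespace Orb77

/-- The root. -/
def root : List ℤ := [2, 2, 0, 0, 0, 0, 0, 0, 0, 0, 0, 0, 0, 2, 0, 2, 0, 2, 2, 2, 0, 0, 0, 2]

/-- The key of the root. -/
def k0 : ℕ := 1214405257750022402714062772671318278553441185829438620371903777501412183968200040458

theorem root_mem : memTest root = true := by decide +kernel

theorem root_key : keyL root = k0 := by decide +kernel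

/-- The packed operations. -/
def ops : List ℕ := [3159621663804162718868897019980251733, 55165585888277480239323325380417290840, 340282366920938463463374325962563032576]

theorem count :
    countD 60 ((certKeys dataD1 dataD2 k0 ops).map hashKey) = 77 := by
  decide +kernel

end Orb77

end CfsgLib.Leech.Cert
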